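import Mathlib

set_option autoImplicit false
universe v v' u u'

namespace H5PicCat

open CategoryTheory MonoidalCategory

section

variable {C : Type u} [Category.{v} C] [MonoidalCategory C]

/-- action of endomorphisms of the unit on an object -/
def act (X : C) (φ : 𝟙_ C ⟶ 𝟙_ C) : X ⟶ X := (λ_ X).inv ≫ (φ ▷ X) ≫ (λ_ X).hom

theorem act_bijective (X : C) [(tensorRight X).Faithful] [(tensorRight X).Full] :
    Function.Bijective (act X) := by
  constructor
  · intro φ ψ h
    unfold act at h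
    have h1 : φ ▷ X = ψ ▷ X := by
      have := congrArg (fun f => (λ_ X).hom ≫ f ≫ (λ_ X).inv) h
      simpa using this
    exact (tensorRight X).map_injective h1
  · intro g
    obtain ⟨φ, hφ⟩ := (tensorRight X).map_surjective ((λ_ X).hom ≫ g ≫ (λ_ X).inv)
    refine ⟨φ, ?_⟩
    unfold act
    have : φ ▷ X = (λ_ X).hom ≫ g ≫ (λ_ X).inv := hφ
    rw [this]
    simp

end

section

variable {C : Type u} [Category.{v} C] [MonoidalCategory C] [IsGroupoid C]
  {D : Type u'} [Category.{v'} D] [MonoidalCategory D] [IsGroupoid D]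
  (F : C ⥤ D) [F.LaxMonoidal]

/-- the conjugated action on `F X` of endomorphisms of `F 𝟙`. -/
noncomputable def actF (X : C) (ψ : F.obj (𝟙_ C) ⟶ F.obj (𝟙_ C)) : F.obj X ⟶ F.obj X :=
  inv (F.map (λ_ X).hom) ≫ inv (Functor.LaxMonoidal.μ F (𝟙_ C) X) ≫ (ψ ▷ F.obj X) ≫
    Functor.LaxMonoidal.μ F (𝟙_ C) X ≫ F.map (λ_ X).hom

theorem actF_bijective (X : C) [(tensorRight (F.obj X)).Faithful] [(tensorRight (F.obj X)).Full] :
    Function.Bijective (actF F X) := by
  constructor
  · intro φ ψ h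
    unfold actF at h
    have h1 : φ ▷ F.obj X = ψ ▷ F.obj X := by
      have := congrArg (fun f => Functor.LaxMonoidal.μ F (𝟙_ C) X ≫ F.map (λ_ X).hom ≫ f ≫
        inv (F.map (λ_ X).hom) ≫ inv (Functor.LaxMonoidal.μ F (𝟙_ C) X)) h
      simpa using this
    exact (tensorRight (F.obj X)).map_injective h1
  · intro g
    obtain ⟨φ, hφ⟩ := (tensorRight (F.obj X)).map_surjective
      (Functor.LaxMonoidal.μ F (𝟙_ C) X ≫ F.map (λ_ X).hom ≫ g ≫
        inv (F.map (λ_ X).hom) ≫ inv (Functor.LaxMonoidal.μ F (𝟙_ C) X))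
    refine ⟨φ, ?_⟩
    unfold actF
    have : φ ▷ F.obj X = Functor.LaxMonoidal.μ F (𝟙_ C) X ≫ F.map (λ_ X).hom ≫ g ≫
        inv (F.map (λ_ X).hom) ≫ inv (Functor.LaxMonoidal.μ F (𝟙_ C) X) := hφ
    rw [this]
    simp

theorem map_act (X : C) (φ : 𝟙_ C ⟶ 𝟙_ C) : F.map (act X φ) = actF F X (F.map φ) := by
  unfold act actF
  rw [F.map_comp, F.map_comp, Functor.LaxMonoidal.μ_natural_left_assoc]
  simp

theorem main15285
    (hC : ∀ X : C, (tensorLeft X).IsEquivalence ∧ (tensorRight X).IsEquivalence)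
    (hD : ∀ X : D, (tensorLeft X).IsEquivalence ∧ (tensorRight X).IsEquivalence)
    [F.EssSurj]
    (h0 : ∀ X Y : C, Nonempty (F.obj X ≅ F.obj Y) → Nonempty (X ≅ Y))
    (h1 : Function.Bijective (fun φ : 𝟙_ C ⟶ 𝟙_ C => F.map φ)) :
    F.IsEquivalence := by
  have hend : ∀ X : C, Function.Bijective (fun f : X ⟶ X => F.map f) := by
    intro X
    haveI := (hC X).2
    haveI := (hD (F.obj X)).2
    have e : (fun f : X ⟶ X => F.map f) ∘ act X = actF F X ∘ (fun φ : 𝟙_ C ⟶ 𝟙_ C => F.map φ) := by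
      funext φ
      exact map_act F X φ
    have hb : Function.Bijective ((fun f : X ⟶ X => F.map f) ∘ act X) := by
      rw [e]; exact (actF_bijective F X).comp h1
    exact (Function.Bijective.of_comp_iff _ (act_bijective X)).mp hb
  have hfaith : F.Faithful := by
    refine ⟨fun {X Y} f g h => ?_⟩
    have h2 : F.map (f ≫ inv g) = F.map (𝟙 X) := by
      rw [F.map_comp, F.map_inv, h, IsIso.hom_inv_id, F.map_id]
    have h3 := (hend X).1 h2
    have : f = (f ≫ inv g) ≫ g := by simp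
    rw [this, h3, Category.id_comp]
  have hfull : F.Full := by
    refine ⟨fun {X Y} h => ?_⟩
    obtain ⟨α⟩ := h0 X Y ⟨asIso h⟩
    obtain ⟨β, hβ⟩ := (hend X).2 (h ≫ inv (F.map α.hom))
    refine ⟨β ≫ α.hom, ?_⟩
    have hβ' : F.map β = h ≫ inv (F.map α.hom) := hβ
    rw [F.map_comp, hβ']
    simp
  exact { faithful := hfaith, full := hfull, essSurj := inferInstance }

end

end H5PicCat
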