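import Mathlib
import Groth.Agent.Lib.Helper5.PicCat.Equiv

set_option autoImplicit false
universe v v' u u'

namespace H5PicCat

open CategoryTheory MonoidalCategory

section

variable {D : Type u'} [Category.{v'} D] [MonoidalCategory D]

theorem act_natural {A B : D} (f : A ⟶ B) (φ : 𝟙_ D ⟶ 𝟙_ D) : act A φ ≫ f = f ≫ act B φ := by
  unfold act
  rw [Category.assoc, Category.assoc, ← leftUnitor_naturality, ← whisker_exchange_assoc,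
    leftUnitor_inv_naturality_assoc]

theorem act_comp (A : D) (φ ψ : 𝟙_ D ⟶ 𝟙_ D) : act A (φ ≫ ψ) = act A φ ≫ act A ψ := by
  unfold act
  simp

theorem act_id (A : D) : act A (𝟙 (𝟙_ D)) = 𝟙 A := by
  unfold act
  simp

theorem act_whiskerRight (A B : D) (φ : 𝟙_ D ⟶ 𝟙_ D) : act A φ ▷ B = act (A ⊗ B) φ := by
  unfold act
  simp only [comp_whiskerRight, leftUnitor_tensor_hom, leftUnitor_tensor_inv, Category.assoc,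
    whiskerRight_tensor, Iso.inv_hom_id_assoc]
  simp

theorem whiskerLeft_act [BraidedCategory D] (A B : D) (ψ : 𝟙_ D ⟶ 𝟙_ D) :
    A ◁ act B ψ = act (A ⊗ B) ψ := by
  have h1 : A ◁ act B ψ = (β_ A B).hom ≫ (act B ψ ▷ A) ≫ (β_ A B).inv := by
    rw [← BraidedCategory.braiding_naturality_right_assoc, Iso.hom_inv_id, Category.comp_id]
  rw [h1, act_whiskerRight, act_natural, Iso.hom_inv_id_assoc]

theorem tensorHom_act [BraidedCategory D] (A B : D) (φ ψ : 𝟙_ D ⟶ 𝟙_ D) :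
    act A φ ⊗ₘ act B ψ = act (A ⊗ B) (φ ≫ ψ) := by
  rw [MonoidalCategory.tensorHom_def, act_whiskerRight, whiskerLeft_act, act_comp]

theorem act_unit (φ : 𝟙_ D ⟶ 𝟙_ D) : act (𝟙_ D) φ = φ := by
  unfold act
  have h : (φ ▷ 𝟙_ D) ≫ (λ_ (𝟙_ D)).hom = (λ_ (𝟙_ D)).hom ≫ φ := by
    rw [unitors_equal]; exact rightUnitor_naturality φ
  rw [h, Iso.inv_hom_id_assoc]

theorem act_unit' (ψ : 𝟙_ D ⟶ 𝟙_ D) : (λ_ (𝟙_ D)).inv ≫ (𝟙_ D ◁ ψ) ≫ (λ_ (𝟙_ D)).hom = ψ := by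
  rw [leftUnitor_naturality, Iso.inv_hom_id_assoc]

theorem End_comm (φ ψ : 𝟙_ D ⟶ 𝟙_ D) : φ ≫ ψ = ψ ≫ φ := by
  calc φ ≫ ψ = act (𝟙_ D) φ ≫ ((λ_ (𝟙_ D)).inv ≫ (𝟙_ D ◁ ψ) ≫ (λ_ (𝟙_ D)).hom) := by
        rw [act_unit, act_unit']
    _ = (λ_ (𝟙_ D)).inv ≫ ((φ ▷ 𝟙_ D) ≫ (𝟙_ D ◁ ψ)) ≫ (λ_ (𝟙_ D)).hom := by
        unfold act; simp
    _ = (λ_ (𝟙_ D)).inv ≫ ((𝟙_ D ◁ ψ) ≫ (φ ▷ 𝟙_ D)) ≫ (λ_ (𝟙_ D)).hom := by
        rw [whisker_exchange]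
    _ = ((λ_ (𝟙_ D)).inv ≫ (𝟙_ D ◁ ψ) ≫ (λ_ (𝟙_ D)).hom) ≫ act (𝟙_ D) φ := by
        unfold act; simp
    _ = ψ ≫ φ := by rw [act_unit, act_unit']

end

end H5PicCat
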