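import Mathlib
import Groth.Agent.Lib.Helper5.PicCat.Act

set_option autoImplicit false
universe v v' u u'

namespace H5PicCat

open CategoryTheory MonoidalCategory Functor.LaxMonoidal

variable {C : Type u} [Category.{v} C] [MonoidalCategory C] [IsGroupoid C]
  {D : Type u'} [Category.{v'} D] [MonoidalCategory D] [BraidedCategory D] [IsGroupoid D]

theorem part2 (F G : C ⥤ D) [F.LaxMonoidal] [G.LaxMonoidal] (θ₀ : F ⟶ G) [NatTrans.IsMonoidal θ₀]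
    (χ : Skeleton C →* End (𝟙_ D)) : ∃ θ : F ⟶ G, NatTrans.IsMonoidal θ ∧ ∀ X : C,
        θ.app X = θ₀.app X ≫ (λ_ (G.obj X)).inv ≫
          ((χ (toSkeleton X) : 𝟙_ D ⟶ 𝟙_ D) ▷ G.obj X) ≫ (λ_ (G.obj X)).hom := by
  let θ : F ⟶ G :=
    { app := fun X => θ₀.app X ≫ act (G.obj X) (χ (toSkeleton X))
      naturality := by
        intro X Y f
        have hXY : toSkeleton X = toSkeleton Y := congr_toSkeleton_of_iso (asIso f)
        rw [hXY, Category.assoc, act_natural, NatTrans.naturality_assoc] }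
  refine ⟨θ, ?_, fun X => rfl⟩
  constructor
  · change ε F ≫ θ₀.app (𝟙_ C) ≫ act (G.obj (𝟙_ C)) (χ (toSkeleton (𝟙_ C))) = ε G
    have h1 : χ (toSkeleton (𝟙_ C)) = 𝟙 (𝟙_ D) := by
      rw [← Skeleton.one_eq, map_one]; rfl
    rw [h1, act_id, Category.comp_id, NatTrans.IsMonoidal.unit]
  · intro X Y
    change μ F X Y ≫ θ₀.app (X ⊗ Y) ≫ act (G.obj (X ⊗ Y)) (χ (toSkeleton (X ⊗ Y)))
      = ((θ₀.app X ≫ act (G.obj X) (χ (toSkeleton X))) ⊗ₘ
          (θ₀.app Y ≫ act (G.obj Y) (χ (toSkeleton Y)))) ≫ μ G X Y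
    have h1 : (χ (toSkeleton (X ⊗ Y)) : 𝟙_ D ⟶ 𝟙_ D)
        = (χ (toSkeleton X) : 𝟙_ D ⟶ 𝟙_ D) ≫ (χ (toSkeleton Y) : 𝟙_ D ⟶ 𝟙_ D) := by
      rw [Skeleton.toSkeleton_tensorObj, map_mul, End.mul_def]
      exact End_comm _ _
    rw [h1, ← MonoidalCategory.tensorHom_comp_tensorHom, tensorHom_act, Category.assoc, act_natural,
      NatTrans.IsMonoidal.tensor_assoc]

theorem part1 (hD : ∀ X : D, (tensorLeft X).IsEquivalence ∧ (tensorRight X).IsEquivalence)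
    (F G : C ⥤ D) [F.LaxMonoidal] [G.LaxMonoidal] (θ₀ : F ⟶ G) [NatTrans.IsMonoidal θ₀]
    (θ : F ⟶ G) (hθ : NatTrans.IsMonoidal θ) :
    ∃! χ : Skeleton C →* End (𝟙_ D), ∀ X : C,
        θ.app X = θ₀.app X ≫ (λ_ (G.obj X)).inv ≫
          ((χ (toSkeleton X) : 𝟙_ D ⟶ 𝟙_ D) ▷ G.obj X) ≫ (λ_ (G.obj X)).hom := by
  have hbij : ∀ Z : D, Function.Bijective (act Z) := by
    intro Z
    haveI := (hD Z).2
    exact act_bijective Z
  set u : ∀ X : C, G.obj X ⟶ G.obj X := fun X => inv (θ₀.app X) ≫ θ.app X with hu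
  have hθu : ∀ X, θ.app X = θ₀.app X ≫ u X := by
    intro X; simp [hu]
  have hunat : ∀ {X Y : C} (f : X ⟶ Y), u X ≫ G.map f = G.map f ≫ u Y := by
    intro X Y f
    simp only [hu, Category.assoc]
    rw [← NatTrans.naturality, IsIso.inv_comp_eq, ← NatTrans.naturality_assoc, IsIso.hom_inv_id_assoc]
  choose φ hφ using fun X : C => (hbij (G.obj X)).2 (u X)
  have hφ_iso : ∀ {X Y : C} (f : X ⟶ Y), φ X = φ Y := by
    intro X Y f
    apply (hbij (G.obj Y)).1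
    rw [← cancel_epi (G.map f), ← act_natural, hφ, hφ, hunat]
  have hφ_one : φ (𝟙_ C) = 𝟙 (𝟙_ D) := by
    apply (hbij (G.obj (𝟙_ C))).1
    rw [hφ, act_id]
    have h1 : θ₀.app (𝟙_ C) = θ.app (𝟙_ C) := by
      rw [← cancel_epi (ε F), NatTrans.IsMonoidal.unit, NatTrans.IsMonoidal.unit]
    simp [hu, h1]
  have hφ_mul : ∀ X Y : C, φ (X ⊗ Y) = φ X ≫ φ Y := by
    intro X Y
    apply (hbij (G.obj X ⊗ G.obj Y)).1
    rw [← cancel_mono (μ G X Y), act_natural, hφ, ← tensorHom_act, hφ, hφ,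
      ← cancel_epi (θ₀.app X ⊗ₘ θ₀.app Y), ← NatTrans.IsMonoidal.tensor_assoc,
      MonoidalCategory.tensorHom_comp_tensorHom_assoc, ← hθu, ← hθu, ← hθu, NatTrans.IsMonoidal.tensor]
  let χ : Skeleton C →* End (𝟙_ D) :=
    { toFun := fun s => φ ((fromSkeleton C).obj s)
      map_one' := by
        change φ ((fromSkeleton C).obj (toSkeleton (𝟙_ C))) = 𝟙 (𝟙_ D)
        rw [hφ_iso (fromSkeletonToSkeletonIso (𝟙_ C)).hom, hφ_one]
      map_mul' := by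
        intro s t
        change φ ((fromSkeleton C).obj (toSkeleton ((fromSkeleton C).obj s ⊗ (fromSkeleton C).obj t)))
          = φ ((fromSkeleton C).obj t) ≫ φ ((fromSkeleton C).obj s)
        rw [hφ_iso (fromSkeletonToSkeletonIso _).hom, hφ_mul, End_comm] }
  have hχ : ∀ X : C, χ (toSkeleton X) = φ X := fun X =>
    hφ_iso (fromSkeletonToSkeletonIso X).hom
  refine ⟨χ, ?_, ?_⟩
  · intro X
    change θ.app X = θ₀.app X ≫ act (G.obj X) (χ (toSkeleton X))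
    rw [hχ, hφ, hθu]
  · intro χ' hχ'
    apply MonoidHom.ext
    intro s
    have hs : s = toSkeleton ((fromSkeleton C).obj s) := (toSkeleton_fromSkeleton_obj s).symm
    rw [hs, hχ]
    apply (hbij (G.obj ((fromSkeleton C).obj s))).1
    rw [hφ]
    have := hχ' ((fromSkeleton C).obj s)
    change θ.app _ = θ₀.app _ ≫ act _ _ at this
    rw [hθu, cancel_epi] at this
    exact this.symm

theorem main15286
    (hD : ∀ X : D, (tensorLeft X).IsEquivalence ∧ (tensorRight X).IsEquivalence)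
    (F G : C ⥤ D) [F.LaxMonoidal] [G.LaxMonoidal] (θ₀ : F ⟶ G) [NatTrans.IsMonoidal θ₀] :
    (∀ θ : F ⟶ G, NatTrans.IsMonoidal θ →
      ∃! χ : Skeleton C →* End (𝟙_ D), ∀ X : C,
        θ.app X = θ₀.app X ≫ (λ_ (G.obj X)).inv ≫
          ((χ (toSkeleton X) : 𝟙_ D ⟶ 𝟙_ D) ▷ G.obj X) ≫ (λ_ (G.obj X)).hom) ∧
    (∀ χ : Skeleton C →* End (𝟙_ D), ∃ θ : F ⟶ G, NatTrans.IsMonoidal θ ∧ ∀ X : C,
        θ.app X = θ₀.app X ≫ (λ_ (G.obj X)).inv ≫
          ((χ (toSkeleton X) : 𝟙_ D ⟶ 𝟙_ D) ▷ G.obj X) ≫ (λ_ (G.obj X)).hom) :=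
  ⟨fun θ hθ => part1 hD F G θ₀ θ hθ, fun χ => part2 F G θ₀ χ⟩

end H5PicCat
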